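import Groth.Agent.ModSiteLib.SetPullLocal
import Mathlib

/-!
If inverse image of sheaves of sets is left exact, inverse image of abelian sheaves preserves
monomorphisms.
-/

set_option autoImplicit false
set_option backward.isDefEq.respectTransparency false

universe u

open CategoryTheory Limits Opposite Groth.Agent.ModSiteLib.SetPull
open scoped Classical

namespace Groth.Agent.AbPullLib

variable {C D : Type u} [SmallCategory C] [SmallCategory D] {J : GrothendieckTopology C}
  {K : GrothendieckTopology D} (fn : D ⥤ C) [fn.IsContinuous K J]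
  (P Q : Dᵒᵖ ⥤ AddCommGrpCat.{u}) {V : C}

/-- Maps from `V` to images of objects. -/
abbrev Idx (V : C) := Σ W : D, (V ⟶ fn.obj W)

noncomputable instance instDecEqIdx {C D : Type u} [SmallCategory C] [SmallCategory D] (fn : D ⥤ C)
    (V : C) : DecidableEq (Idx fn V) := Classical.decEq _

/-- The extension by zero of a family of maps on a finite set of indices. -/
noncomputable def ev {W₀ : D} (s : Finset (Idx fn V)) (p : ∀ i ∈ s, W₀ ⟶ i.1) :
    (Π₀ i : Idx fn V, (P.obj (op i.1) : Type u)) →+ P.obj (op W₀) :=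
  DFinsupp.sumAddHom fun i => if h : i ∈ s then (P.map (p i h).op).hom else 0

theorem ev_single {W₀ : D} (s : Finset (Idx fn V)) (p : ∀ i ∈ s, W₀ ⟶ i.1) (i : Idx fn V)
    (hi : i ∈ s) (x : P.obj (op i.1)) :
    ev fn P s p (DFinsupp.single i x) = P.map (p i hi).op x := by
  unfold ev
  rw [DFinsupp.sumAddHom_single, dif_pos hi]

theorem ev_eq_sum {W₀ : D} (s : Finset (Idx fn V)) (p : ∀ i ∈ s, W₀ ⟶ i.1)
    (v : Π₀ i : Idx fn V, (P.obj (op i.1) : Type u)) (hv : ∀ i ∉ s, v i = 0) :
    ev fn P s p v = ∑ i ∈ s.attach, P.map (p i.1 i.2).op (v i.1) := by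
  have hs : v.support ⊆ s := fun i hi => by
    by_contra h
    exact (DFinsupp.mem_support_iff.1 hi) (hv i h)
  conv_lhs => rw [← DFinsupp.sum_single (f := v)]
  rw [DFinsupp.sum, map_sum, Finset.sum_subset hs fun i _ hi => by
    rw [DFinsupp.notMem_support_iff.1 hi, DFinsupp.single_zero, map_zero], ← Finset.sum_attach]
  exact Finset.sum_congr rfl fun i _ => ev_single fn P s p i.1 i.2 _

theorem map_op_comp_apply {X Y Z : D} (a : X ⟶ Y) (b : Y ⟶ Z) (x : P.obj (op Z)) :
    P.map (a ≫ b).op x = P.map a.op (P.map b.op x) := by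
  rw [op_comp, P.map_comp]
  rfl

theorem map_ev {W₀ W₁ : D} (s s' : Finset (Idx fn V)) (p : ∀ i ∈ s, W₀ ⟶ i.1)
    (p' : ∀ i ∈ s', W₁ ⟶ i.1) (hss : s ⊆ s') (k : W₁ ⟶ W₀)
    (hp : ∀ (i : Idx fn V) (hi : i ∈ s), p' i (hss hi) = k ≫ p i hi)
    (v : Π₀ i : Idx fn V, (P.obj (op i.1) : Type u)) (hv : ∀ i ∉ s, v i = 0) :
    P.map k.op (ev fn P s p v) = ev fn P s' p' v := by
  rw [ev_eq_sum fn P s p v hv, ev_eq_sum fn P s' p' v (fun i hi => hv i fun h => hi (hss h)), map_sum]
  let f : Idx fn V → P.obj (op W₁) := fun i =>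
    if h : i ∈ s' then P.map (p' i h).op (v i) else 0
  have e₁ : ∑ i ∈ s.attach, P.map k.op (P.map (p i.1 i.2).op (v i.1)) = ∑ i ∈ s.attach, f i.1 :=
    Finset.sum_congr rfl fun i _ => by
      simp only [f, dif_pos (hss i.2)]
      rw [hp i.1 i.2, map_op_comp_apply]
  have e₂ : ∑ i ∈ s'.attach, P.map (p' i.1 i.2).op (v i.1) = ∑ i ∈ s'.attach, f i.1 :=
    Finset.sum_congr rfl fun i _ => by simp only [f, dif_pos i.2]
  rw [e₁, e₂, Finset.sum_attach s f, Finset.sum_attach s' f]
  exact Finset.sum_subset hss fun i hi hi' => by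
    simp only [f, dif_pos hi]
    rw [hv i hi', map_zero]

variable (J) in
/-- A formal sum which locally dies after pushing it to any common refinement. -/
def Good (v : Π₀ i : Idx fn V, (P.obj (op i.1) : Type u)) : Prop :=
  ∀ ⦃V' : C⦄ (g : V' ⟶ V) (W₀ : D) (h₀ : V' ⟶ fn.obj W₀) (s : Finset (Idx fn V))
    (p : ∀ i ∈ s, W₀ ⟶ i.1), (∀ (i : Idx fn V) (hi : i ∈ s), g ≫ i.2 = h₀ ≫ fn.map (p i hi)) →
    (∀ i ∉ s, v i = 0) →
    Loc J V' fun V'' g' => ∃ (W₁ : D) (h₁ : V'' ⟶ fn.obj W₁) (k : W₁ ⟶ W₀),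
      g' ≫ h₀ = h₁ ≫ fn.map k ∧ P.map k.op (ev fn P s p v) = 0

variable [hfn : PreservesFiniteLimits (fn.sheafPullback (Type u) K J)]

include hfn in
/-- Locally, a refinement extends to finitely many more indices. -/
theorem loc_extend {V' : C} (g : V' ⟶ V) (W₀ : D) (h₀ : V' ⟶ fn.obj W₀) (s : Finset (Idx fn V))
    (p : ∀ i ∈ s, W₀ ⟶ i.1)
    (hp : ∀ (i : Idx fn V) (hi : i ∈ s), g ≫ i.2 = h₀ ≫ fn.map (p i hi))
    (t : Finset (Idx fn V)) :
    Loc J V' fun V'' g' => ∃ (W₁ : D) (h₁ : V'' ⟶ fn.obj W₁) (k : W₁ ⟶ W₀)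
      (s' : Finset (Idx fn V)) (hss : s ⊆ s') (p' : ∀ i ∈ s', W₁ ⟶ i.1), t ⊆ s' ∧
      g' ≫ h₀ = h₁ ≫ fn.map k ∧
      (∀ (i : Idx fn V) (hi : i ∈ s), p' i (hss hi) = k ≫ p i hi) ∧
      ∀ (i : Idx fn V) (hi : i ∈ s'), (g' ≫ g) ≫ i.2 = h₁ ≫ fn.map (p' i hi) := by
  induction t using Finset.induction with
  | empty =>
    refine Loc.of_forall fun V'' g' => ⟨W₀, g' ≫ h₀, 𝟙 _, s, subset_rfl, p, Finset.empty_subset _,
      by simp, fun i hi => (Category.id_comp _).symm, fun i hi => ?_⟩
    rw [Category.assoc, hp i hi, Category.assoc]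
  | @insert a t _ ih =>
    refine ih.bind fun V'' g' ⟨W₁, h₁, k, s', hss, p', hts, hk, hpp, hc⟩ => ?_
    refine (loc_lift_pair (J := J) (K := K) fn h₁ ((g' ≫ g) ≫ a.2)).mono
      fun V₃ g'' ⟨W₂, h₂, b, c, hb, hc'⟩ => ⟨W₂, h₂, b ≫ k, insert a s',
        hss.trans (Finset.subset_insert _ _),
        fun i hi => if h : i ∈ s' then b ≫ p' i h else
          c ≫ eqToHom (congrArg Sigma.fst (((Finset.mem_insert.1 hi).resolve_right h).symm)),
        Finset.insert_subset_insert a hts, ?_, fun i hi => ?_, fun i hi => ?_⟩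
    · rw [fn.map_comp, ← Category.assoc h₂, ← hb, Category.assoc g'', Category.assoc g'', hk]
    · dsimp only
      rw [dif_pos (hss hi), hpp i hi, Category.assoc]
    · dsimp only
      by_cases h : i ∈ s'
      · rw [dif_pos h, fn.map_comp, ← Category.assoc h₂, ← hb, Category.assoc g'' h₁, ← hc i h]
        simp only [Category.assoc]
      · obtain rfl : i = a := (Finset.mem_insert.1 hi).resolve_right h
        rw [dif_neg h, eqToHom_refl, Category.comp_id, ← hc']
        simp only [Category.assoc]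

include hfn in
theorem good_add {v w : Π₀ i : Idx fn V, (P.obj (op i.1) : Type u)} (hv : Good J fn P v)
    (hw : Good J fn P w) : Good J fn P (v + w) := by
  intro V' g W₀ h₀ s p hp hs
  refine (loc_extend (J := J) (K := K) fn g W₀ h₀ s p hp (v.support ∪ w.support)).bind
    fun V'' g' ⟨W₁, h₁, k, s', hss, p', hts, hk, hpp, hc⟩ => ?_
  refine (hv (g' ≫ g) W₁ h₁ s' p' hc fun i hi => DFinsupp.notMem_support_iff.1 fun h =>
    hi (hts (Finset.mem_union_left _ h))).bind fun V₃ g'' ⟨W₂, h₂, k₂, hk₂, hv₂⟩ => ?_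
  have hw' : ∀ i ∉ s', w i = 0 := fun i hi => DFinsupp.notMem_support_iff.1 fun h =>
    hi (hts (Finset.mem_union_right _ h))
  refine (hw (g'' ≫ g' ≫ g) W₂ h₂ s' (fun i hi => k₂ ≫ p' i hi) (fun i hi => ?_) hw').mono
    fun V₄ g₄ ⟨W₃, h₃, k₃, hk₃, hw₃⟩ => ⟨W₃, h₃, k₃ ≫ k₂ ≫ k, ?_, ?_⟩
  · rw [fn.map_comp, ← Category.assoc h₂, ← hk₂, Category.assoc g'' h₁, ← hc i hi]
    simp only [Category.assoc]
  · rw [fn.map_comp, fn.map_comp, ← Category.assoc h₃, ← hk₃, Category.assoc g₄ h₂,
      ← Category.assoc h₂, ← hk₂, Category.assoc g'' h₁, ← hk]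
    simp only [Category.assoc]
  · rw [map_op_comp_apply, map_op_comp_apply, map_ev fn P s s' p p' hss k hpp _ hs, map_add, map_add,
      map_add, hv₂, map_ev fn P s' s' p' (fun i hi => k₂ ≫ p' i hi) subset_rfl k₂ (fun i hi => rfl) w hw',
      hw₃, map_zero, zero_add]

include hfn in
theorem good_rel {W W' : D} (h : V ⟶ fn.obj W) (m : W ⟶ W') (x : P.obj (op W'))
    :
    Good J fn P (DFinsupp.single (⟨W, h⟩ : Idx fn V) (P.map m.op x) -
      DFinsupp.single (⟨W', h ≫ fn.map m⟩ : Idx fn V) x) := by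
  let i : Idx fn V := ⟨W, h⟩
  let j : Idx fn V := ⟨W', h ≫ fn.map m⟩
  intro V' g W₀ h₀ s p hp hs
  refine (loc_extend (J := J) (K := K) fn g W₀ h₀ s p hp {i, j}).bind
    fun V'' g' ⟨W₁, h₁, k, s', hss, p', hts, hk, hpp, hc⟩ => ?_
  have hi : i ∈ s' := hts (by simp)
  have hj : j ∈ s' := hts (by simp)
  have e₁ : (g' ≫ g) ≫ h = h₁ ≫ fn.map (p' i hi) := hc i hi
  have e₂ : (g' ≫ g) ≫ h ≫ fn.map m = h₁ ≫ fn.map (p' j hj) := hc j hj
  refine (loc_lift_eq (J := J) (K := K) fn (p' i hi ≫ m) (p' j hj) h₁ (by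
    rw [fn.map_comp, ← Category.assoc, ← e₁, ← e₂]; simp only [Category.assoc])).mono
    fun V₃ g'' ⟨W₂, h₂, k₂, hk₂, hh₂⟩ => ⟨W₂, h₂, k₂ ≫ k, ?_, ?_⟩
  · rw [fn.map_comp, ← Category.assoc h₂, ← hh₂, Category.assoc, Category.assoc, hk]
  · rw [map_op_comp_apply, map_ev fn P s s' p p' hss k hpp _ hs, map_sub,
      ev_single fn P s' p' i hi, ev_single fn P s' p' j hj, map_sub, ← map_op_comp_apply,
      ← map_op_comp_apply, ← map_op_comp_apply, Category.assoc, hk₂, sub_self]

variable (J) in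
/-- The subgroup of locally dying formal sums. -/
def goodSubgroup : AddSubgroup (Π₀ i : Idx fn V, (P.obj (op i.1) : Type u)) where
  carrier := Set.ofPred (Good J fn P)
  add_mem' := fun ha hb => good_add (K := K) fn P ha hb
  zero_mem' := fun V' g W₀ h₀ s p _ _ => Loc.of_forall fun V'' g' =>
    ⟨W₀, g' ≫ h₀, 𝟙 _, by simp, by rw [map_zero, map_zero]⟩
  neg_mem' := fun {v} hv V' g W₀ h₀ s p hp hs =>
    (hv g W₀ h₀ s p hp fun i hi => by
      have e := hs i hi
      rwa [DFinsupp.neg_apply, neg_eq_zero] at e).mono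
      fun V'' g' ⟨W₁, h₁, k, hk, e⟩ => ⟨W₁, h₁, k, hk, by rw [map_neg, map_neg, e, neg_zero]⟩

/-- The image of a section in the left Kan extension. -/
noncomputable def iota {W : D} (h : V ⟶ fn.obj W) :
    P.obj (op W) →+ (fn.op.lan.obj P).obj (op V) :=
  ((fn.op.lanUnit.app P).app (op W) ≫ (fn.op.lan.obj P).map h.op).hom

omit [fn.IsContinuous K J] hfn in
theorem map_iota {V' : C} (g : V' ⟶ V) {W : D} (h : V ⟶ fn.obj W) (x : P.obj (op W)) :
    (fn.op.lan.obj P).map g.op (iota fn P h x) = iota fn P (g ≫ h) x := by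
  simp only [iota]
  rw [op_comp, Functor.map_comp]
  rfl

omit [fn.IsContinuous K J] hfn in
theorem iota_map {W W' : D} (h : V ⟶ fn.obj W) (m : W ⟶ W') (x : P.obj (op W')) :
    iota fn P h (P.map m.op x) = iota fn P (h ≫ fn.map m) x := by
  have e := NatTrans.naturality_apply (fn.op.lanUnit.app P) m.op x
  refine (congrArg ((fn.op.lan.obj P).map h.op) e).trans ?_
  exact map_iota fn P h (fn.map m) x

omit [fn.IsContinuous K J] hfn in
theorem lanMap_iota (f : P ⟶ Q) {W : D} (h : V ⟶ fn.obj W) (x : P.obj (op W)) :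
    (fn.op.lan.map f).app (op V) (iota fn P h x) = iota fn Q h (f.app (op W) x) := by
  refine (NatTrans.naturality_apply (fn.op.lan.map f) h.op _).trans ?_
  refine congrArg ((fn.op.lan.obj Q).map h.op) ?_
  exact (congr($(fn.op.lanUnit.naturality f).app (op W) x)).symm

/-- Formal sums map to the left Kan extension. -/
noncomputable def total :
    (Π₀ i : Idx fn V, (P.obj (op i.1) : Type u)) →+ (fn.op.lan.obj P).obj (op V) :=
  DFinsupp.sumAddHom fun i => iota fn P i.2

/-- The pointwise colimit cocone of the left Kan extension. -/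
noncomputable abbrev lanCocone (V : C) :
    Cocone (CostructuredArrow.proj fn.op (op V) ⋙ P) :=
  (Functor.LeftExtension.mk _ (fn.op.leftKanExtensionUnit P)).coconeAt (op V)

omit [fn.IsContinuous K J] hfn in
theorem total_surjective : Function.Surjective (total (V := V) fn P) := by
  rw [← AddMonoidHom.range_eq_top, eq_top_iff]
  intro z _
  let R := (total (V := V) fn P).range
  have e : AddCommGrpCat.ofHom (QuotientAddGroup.mk' R) =
      (0 : (fn.op.lan.obj P).obj (op V) ⟶ AddCommGrpCat.of (_ ⧸ R)) := by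
    apply (Functor.isPointwiseLeftKanExtensionLeftKanExtensionUnit fn.op P (op V)).hom_ext
    intro T
    ext x
    refine (QuotientAddGroup.eq_zero_iff _).2 ⟨DFinsupp.single ⟨T.left.unop, T.hom.unop⟩ x, ?_⟩
    exact DFinsupp.sumAddHom_single _ _ _
  exact (QuotientAddGroup.eq_zero_iff z).1 (congr($e z))

include hfn in
theorem good_of_total_eq_zero 
    (v : Π₀ i : Idx fn V, (P.obj (op i.1) : Type u)) (hv : total fn P v = 0) : Good J fn P v := by
  let N := goodSubgroup J (K := K) fn (V := V) P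
  let c : Cocone (CostructuredArrow.proj fn.op (op V) ⋙ P) :=
    { pt := AddCommGrpCat.of ((Π₀ i : Idx fn V, (P.obj (op i.1) : Type u)) ⧸ N)
      ι :=
        { app := fun T => AddCommGrpCat.ofHom ((QuotientAddGroup.mk' N).comp
            (DFinsupp.singleAddHom (fun i : Idx fn V => (P.obj (op i.1) : Type u))
              ⟨T.left.unop, T.hom.unop⟩))
          naturality := fun T T' φ => by
            ext x
            refine (QuotientAddGroup.eq_iff_sub_mem (N := N)).2 ?_
            have hw : T'.hom.unop ≫ fn.map φ.left.unop = T.hom.unop :=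
              congrArg Quiver.Hom.unop (CostructuredArrow.w φ)
            have e := good_rel (J := J) (K := K) fn P T'.hom.unop φ.left.unop x
            rw [hw] at e
            exact e } }
  have hc : IsColimit (lanCocone fn P V) :=
    Functor.isPointwiseLeftKanExtensionLeftKanExtensionUnit fn.op P (op V)
  have e : (hc.desc c).hom.comp (total fn P) = QuotientAddGroup.mk' N := by
    refine DFinsupp.addHom_ext fun i x => ?_
    refine (congrArg (hc.desc c) (DFinsupp.sumAddHom_single _ _ _)).trans ?_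
    exact congr($(hc.fac c (CostructuredArrow.mk (S := fn.op) (Y := op i.1) i.2.op)) x)
  have e' := congr($e v)
  refine (QuotientAddGroup.eq_zero_iff (N := N) v).1 (e'.symm.trans ?_)
  exact (congrArg (hc.desc c).hom hv).trans (map_zero _)

include hfn in
/-- The left Kan extension of an injective map is locally injective. -/
theorem lan_loc_injective (f : P ⟶ Q) (hf : ∀ W, Function.Injective (f.app W))
    (z : (fn.op.lan.obj P).obj (op V)) (hz : (fn.op.lan.map f).app (op V) z = 0) :
    Loc J V fun _ g => (fn.op.lan.obj P).map g.op z = 0 := by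
  obtain ⟨v, rfl⟩ := total_surjective fn P z
  by_cases hne : v.support.Nonempty
  swap
  · rw [Finset.not_nonempty_iff_eq_empty, DFinsupp.support_eq_empty] at hne
    exact Loc.of_forall fun V' g => by rw [hne, map_zero, map_zero]
  obtain ⟨i₀, _⟩ := hne
  let fv : Π₀ i : Idx fn V, (Q.obj (op i.1) : Type u) :=
    DFinsupp.mapRange.addMonoidHom (fun i : Idx fn V => (f.app (op i.1)).hom) v
  have htot : total fn Q fv = (fn.op.lan.map f).app (op V) (total fn P v) := by
    have e : (total fn Q).comp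
        (DFinsupp.mapRange.addMonoidHom (fun i : Idx fn V => (f.app (op i.1)).hom)) =
        ((fn.op.lan.map f).app (op V)).hom.comp (total fn P) := by
      refine DFinsupp.addHom_ext fun i x => ?_
      simp only [AddMonoidHom.comp_apply, DFinsupp.mapRange.addMonoidHom_apply,
        DFinsupp.mapRange_single, total, DFinsupp.sumAddHom_single]
      exact (lanMap_iota fn P Q f i.2 x).symm
    exact congr($e v)
  have hgood : Good J fn Q fv := good_of_total_eq_zero (K := K) fn Q fv (htot.trans hz)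
  refine (loc_extend (J := J) (K := K) fn (𝟙 V) i₀.1 i₀.2 {i₀}
    (fun i hi => eqToHom (congrArg Sigma.fst (Finset.mem_singleton.1 hi).symm))
    (fun i hi => by
      obtain rfl := Finset.mem_singleton.1 hi
      simp) v.support).bind fun V' g ⟨W₁, h₁, k, s', hss, p', hts, hk, hpp, hc⟩ => ?_
  have hv : ∀ i ∉ s', v i = 0 := fun i hi => DFinsupp.notMem_support_iff.1 fun h => hi (hts h)
  have hfv : ∀ i ∉ s', fv i = 0 := fun i hi => by
    show (DFinsupp.mapRange.addMonoidHom (fun i : Idx fn V => (f.app (op i.1)).hom) v) i = 0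
    rw [DFinsupp.mapRange.addMonoidHom_apply, DFinsupp.mapRange_apply, hv i hi, map_zero]
  have hev : ev fn Q s' p' fv = f.app (op W₁) (ev fn P s' p' v) := by
    rw [ev_eq_sum fn Q s' p' fv hfv, ev_eq_sum fn P s' p' v hv, map_sum]
    refine Finset.sum_congr rfl fun i _ => ?_
    exact (NatTrans.naturality_apply f (p' i.1 i.2).op (v i.1)).symm
  have hg : ∀ i ∈ s'.attach, g ≫ i.1.2 = h₁ ≫ fn.map (p' i.1 i.2) := fun i _ => by
    simpa using hc i.1 i.2
  have hres : (fn.op.lan.obj P).map g.op (total fn P v) = iota fn P h₁ (ev fn P s' p' v) := by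
    rw [ev_eq_sum fn P s' p' v hv, map_sum]
    have e : v = ∑ i ∈ s', DFinsupp.single i (v i) := by
      conv_lhs => rw [← DFinsupp.sum_single (f := v)]
      exact Finset.sum_subset hts fun i _ hi => by
        rw [DFinsupp.notMem_support_iff.1 hi, DFinsupp.single_zero]
    conv_lhs => rw [e, map_sum, map_sum, ← Finset.sum_attach]
    refine Finset.sum_congr rfl fun i hi => ?_
    simp only [total, DFinsupp.sumAddHom_single]
    rw [map_iota, hg i hi]
    exact (iota_map fn P h₁ (p' i.1 i.2) _).symm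
  refine (hgood (g ≫ 𝟙 V) W₁ h₁ s' p' hc hfv).mono fun V'' g' ⟨W₂, h₂, k₂, hk₂, e⟩ => ?_
  rw [hev] at e
  have e0 : P.map k₂.op (ev fn P s' p' v) = 0 := by
    apply hf (op W₂)
    refine (NatTrans.naturality_apply f k₂.op _).trans (e.trans ?_)
    exact (map_zero _).symm
  rw [op_comp, Functor.map_comp]
  refine (congrArg ((fn.op.lan.obj P).map g'.op) hres).trans ?_
  rw [map_iota, hk₂, ← iota_map, e0, map_zero]

variable (J K) in
include hfn in
/-- Inverse image of abelian sheaves preserves monomorphisms. -/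
theorem preservesMonomorphisms_sheafPullback :
    (fn.sheafPullback AddCommGrpCat.{u} K J).PreservesMonomorphisms := by
  have : (Functor.sheafPullbackConstruction.sheafPullback fn AddCommGrpCat.{u} K J).PreservesMonomorphisms := by
    refine ⟨fun {F G} f hf => ?_⟩
    have hinj : ∀ W, Function.Injective (f.hom.app W) := fun W =>
      (AddCommGrpCat.mono_iff_injective _).1
        (inferInstanceAs (Mono (((sheafToPresheaf K AddCommGrpCat.{u}).map f).app W)))
    haveI : Presheaf.IsLocallyInjective J (fn.op.lan.map f.hom) := by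
      refine ⟨fun {Z} a b hab => ?_⟩
      obtain ⟨S, hS, hSz⟩ := lan_loc_injective (J := J) (K := K) fn F.obj G.obj (V := Z.unop) f.hom
        hinj (a - b) (by rw [map_sub]; exact sub_eq_zero.2 hab)
      refine J.superset_covering (fun V' g hg => ?_) hS
      show (fn.op.lan.obj F.obj).map g.op a = (fn.op.lan.obj F.obj).map g.op b
      have e : (fn.op.lan.obj F.obj).map g.op (a - b) = 0 := hSz g hg
      rw [map_sub, sub_eq_zero] at e
      exact e
    have hl : Sheaf.IsLocallyInjective ((presheafToSheaf J AddCommGrpCat.{u}).map (fn.op.lan.map f.hom)) :=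
      (Presheaf.isLocallyInjective_presheafToSheaf_map_iff J _).2 this
    haveI : Sheaf.IsLocallyInjective
        ((Functor.sheafPullbackConstruction.sheafPullback fn AddCommGrpCat.{u} K J).map f) := hl
    exact Sheaf.mono_of_isLocallyInjective _
  exact ⟨fun {F G} f hf => ((MorphismProperty.monomorphisms (Sheaf J AddCommGrpCat.{u})).arrow_mk_iso_iff
    (((Functor.mapArrowFunctor _ _).mapIso
      (Functor.sheafPullbackConstruction.sheafPullbackIso fn AddCommGrpCat.{u} K J)).app
        (Arrow.mk f))).2 (this.preserves f)⟩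

end Groth.Agent.AbPullLib
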